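import Groth.Agent.L06.DivPullback.Main
import Groth.Agent.L16.ProjSpace.Charts
import Mathlib.AlgebraicGeometry.Noetherian

/-!
# Affine space and projective space charts
-/

set_option autoImplicit false
set_option maxSynthPendingDepth 3
set_option linter.style.haveILetI false
set_option backward.isDefEq.respectTransparency.types false

universe u

open CategoryTheory CategoryTheory.Limits AlgebraicGeometry MvPolynomial

noncomputable section

namespace Groth.L06.DivPullback

theorem affine_chart_exists (σ : Type u) [Finite σ] (X : Scheme.{u}) [IsIntegral X] [IsLocallyNoetherian X]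
    (x : X) : ∃ c : Chart (𝔸(σ; X) ↘ X), x ∈ Set.range c.i ∧
      Set.range c.j = (𝔸(σ; X) ↘ X) ⁻¹' Set.range c.i := by
  obtain ⟨U, hU, hxU, -⟩ := exists_isAffineOpen_mem_and_subset (x := x) (U := (⊤ : X.Opens)) trivial
  haveI : Nonempty U := ⟨⟨x, hxU⟩⟩
  haveI : IsDomain Γ(X, U) := inferInstance
  haveI : IsNoetherianRing Γ(X, U) := IsLocallyNoetherian.component_noetherian ⟨U, hU⟩
  let i := hU.fromSpec
  haveI hmap : IsOpenImmersion (AffineSpace.map σ i) :=
    MorphismProperty.of_isPullback (AffineSpace.isPullback_map (n := σ) i).flip inferInstance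
  let j : Spec (PR σ Γ(X, U)) ⟶ 𝔸(σ; X) := (AffineSpace.SpecIso σ Γ(X, U)).inv ≫ AffineSpace.map σ i
  have hcomm : j ≫ (𝔸(σ; X) ↘ X) = Spec.map (CHom σ Γ(X, U)) ≫ i := by
    simp only [j, Category.assoc, AffineSpace.map_over]
    rw [← Category.assoc, AffineSpace.SpecIso_inv_over]
  let c : Chart (𝔸(σ; X) ↘ X) :=
    { σ := σ, fin := inferInstance, A := Γ(X, U), dom := inferInstance, noeth := inferInstance,
      j := j, hj := inferInstance, i := i, hi := inferInstance, comm := hcomm }
  refine ⟨c, ?_, Set.Subset.antisymm ?_ fun y hy => ?_⟩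
  · show x ∈ Set.range hU.fromSpec
    rw [hU.range_fromSpec]; exact hxU
  · rintro _ ⟨P, rfl⟩
    exact ⟨_, (c.comm_apply P).symm⟩
  · obtain ⟨p, hp⟩ := hy
    obtain ⟨z, hz, -⟩ := Scheme.exists_preimage_of_isPullback (AffineSpace.isPullback_map (n := σ) i) y p hp.symm
    refine ⟨(AffineSpace.SpecIso σ Γ(X, U)).hom z, ?_⟩
    show (AffineSpace.map σ i) ((AffineSpace.SpecIso σ Γ(X, U)).inv ((AffineSpace.SpecIso σ Γ(X, U)).hom z)) = y
    rw [← Scheme.Hom.comp_apply (AffineSpace.SpecIso σ Γ(X, U)).hom, Iso.hom_inv_id]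
    exact hz

theorem affine_charts (σ : Type u) [Finite σ] (X : Scheme.{u}) [IsIntegral X] [IsNoetherian X] :
    ∃ (I : Type u) (_ : Finite I) (_ : Nonempty I) (c : I → Chart (𝔸(σ; X) ↘ X)),
      (∀ x, ∃ k, x ∈ Set.range (c k).i) ∧ ∀ k, Set.range (c k).j = (𝔸(σ; X) ↘ X) ⁻¹' Set.range (c k).i := by
  choose c hc hr using affine_chart_exists σ X
  haveI : CompactSpace X := inferInstance
  obtain ⟨t, ht⟩ := CompactSpace.elim_nhds_subcover (fun x => Set.range (c x).i)
    fun x => (c x).i.isOpenEmbedding.isOpen_range.mem_nhds (hc x)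
  have hcov : ∀ x : X, ∃ k : t, x ∈ Set.range (c k.1).i := fun x => by
    have hx : x ∈ (⊤ : Set X) := trivial
    rw [← ht, Set.mem_iUnion₂] at hx
    obtain ⟨y, hy, hxy⟩ := hx
    exact ⟨⟨y, hy⟩, hxy⟩
  exact ⟨t, inferInstance, ⟨(hcov (genericPoint X)).choose⟩, fun k => c k.1, hcov, fun k => hr k.1⟩

open Groth.L16.ProjSpace in
/-- The chart of `ℙⁿ_A` away from `X₀ = 0`. -/
def projChart (A : Type u) [CommRing A] [IsDomain A] [IsNoetherianRing A] (n : ℕ) :
    Chart (CohB1.ProjSpace.toSpec n A) where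
  σ := ULift.{u} (ChartVar n 0)
  fin := inferInstance
  A := CommRingCat.of A
  dom := inferInstanceAs (IsDomain A)
  noeth := inferInstanceAs (IsNoetherianRing A)
  j := Spec.map (CommRingCat.ofHom (MvPolynomial.rename (R := A) ULift.up).toRingHom) ≫ chart n A 0
  hj := by
    haveI : IsIso (CommRingCat.ofHom (MvPolynomial.rename (R := A) (σ := ChartVar n 0) ULift.up).toRingHom) :=
      (MvPolynomial.renameEquiv A (Equiv.ulift.{u}.symm : ChartVar n 0 ≃ ULift.{u} (ChartVar n 0))).toRingEquiv.toCommRingCatIso.isIso_hom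
    infer_instance
  i := 𝟙 _
  hi := inferInstance
  comm := by
    rw [Category.comp_id, Category.assoc, chart_toSpec, ← Spec.map_comp]
    congr 1
    exact CommRingCat.hom_ext (RingHom.ext fun a => MvPolynomial.rename_C _ a)

open Groth.L16.ProjSpace in
theorem range_projChart (A : Type u) [CommRing A] [IsDomain A] [IsNoetherianRing A] (n : ℕ)
    (y : CohB1.ProjSpace n A) :
    y ∈ Set.range (projChart A n).j ↔ (MvPolynomial.X 0 : MvPolynomial (Fin (n + 1)) A) ∉ y.asHomogeneousIdeal := by
  haveI : IsIso (CommRingCat.ofHom (MvPolynomial.rename (R := A) (σ := ChartVar n 0) ULift.up).toRingHom) :=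
    (MvPolynomial.renameEquiv A (Equiv.ulift.{u}.symm : ChartVar n 0 ≃ ULift.{u} (ChartVar n 0))).toRingEquiv.toCommRingCatIso.isIso_hom
  have h := (Scheme.Hom.opensRange_comp_of_isIso
    (Spec.map (CommRingCat.ofHom (MvPolynomial.rename (R := A) (σ := ChartVar n 0) ULift.up).toRingHom))
    (chart n A 0)).trans (opensRange_chart n A 0)
  exact (SetLike.ext_iff.mp h y).trans Iff.rfl

/-- Points off the chart are specialisations of the hyperplane point; of coheight one only that point. -/
theorem eq_hyperplane (A : Type u) [CommRing A] [IsDomain A] [IsNoetherianRing A] (n : ℕ)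
    [IsIntegral (CohB1.ProjSpace n A)] [IsLocallyNoetherian (CohB1.ProjSpace n A)] (H : ↥(CohB1.ProjSpace n A))
    (hH : H.asHomogeneousIdeal.toIdeal = Ideal.span {(MvPolynomial.X 0 : MvPolynomial (Fin (n + 1)) A)})
    (y : ↥(CohB1.ProjSpace n A)) (hy : y ∉ Set.range (projChart A n).j) (hy1 : Order.coheight y = 1) : y = H := by
  rw [range_projChart, not_not] at hy
  have hle : H.asHomogeneousIdeal ≤ y.asHomogeneousIdeal := by
    show H.asHomogeneousIdeal.toIdeal ≤ y.asHomogeneousIdeal.toIdeal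
    rw [hH, Ideal.span_singleton_le_iff_mem]
    exact hy
  have hspec : H ⤳ y := by
    rw [specializes_iff_mem_closure]
    exact (ProjectiveSpectrum.le_iff_mem_closure _ H y).mp hle
  by_contra hne
  have hlt : y < H := lt_of_le_not_ge hspec fun h => hne (Specializes.antisymm (show H ⤳ y from hspec) (show y ⤳ H from h)).eq.symm
  have hgenH : H ≠ genericPoint (CohB1.ProjSpace n A) := fun h0 => by
    have h1 : (projChart A n).j (genericPoint _) = H := (genericPoint_eq_of_isOpenImmersion _).trans h0.symm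
    exact (range_projChart A n H).mp ⟨_, h1⟩ (hH.ge (Ideal.mem_span_singleton_self _))
  have hlt' : H < genericPoint (CohB1.ProjSpace n A) := lt_of_le_not_ge
    ((genericPoint_spec _).specializes trivial)
    fun h => hgenH (Specializes.antisymm (show H ⤳ genericPoint (CohB1.ProjSpace n A) from h) ((genericPoint_spec _).specializes trivial)).eq
  have h2 := (add_le_add (Order.coheight_add_one_le hlt') le_rfl).trans (Order.coheight_add_one_le hlt)
  rw [coheight_genericPoint, hy1] at h2
  exact absurd h2 (by norm_num)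

open Groth.L16.ProjSpace in
theorem chart_preimage_C_mul_X (A : Type u) [CommRing A] (n : ℕ) (i : Fin (n + 1)) (a : A) :
    chart n A i ⁻¹ᵁ (Proj.basicOpen (CohB1.polyGrading n A) (MvPolynomial.C a * MvPolynomial.X i)) =
      PrimeSpectrum.basicOpen (MvPolynomial.C a : MvPolynomial (ChartVar n i) A) := by
  have hg : (MvPolynomial.C a * MvPolynomial.X i : MvPolynomial (Fin (n + 1)) A) ∈ CohB1.polyGrading n A 1 :=
    mem_grading_iff n A |>.mpr ((isHomogeneous_X A i).C_mul a)
  have he : (awayEquiv n A i).symm (HomogeneousLocalization.Away.isLocalizationElem (X_mem n A i) hg) =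
      MvPolynomial.C a := by
    rw [RingEquiv.symm_apply_eq]
    refine Eq.trans ?_ (toAway_C n A i a).symm
    apply HomogeneousLocalization.val_injective
    rw [HomogeneousLocalization.Away.val_mk, val_constHom, Localization.mk_eq_mk', IsLocalization.mk'_eq_iff_eq_mul,
      ← map_mul]
    simp only [pow_one]
  show (Spec.map _ ≫ chartAway n A i) ⁻¹ᵁ _ = _
  rw [Scheme.Hom.comp_preimage, chartAway]
  refine (congrArg (fun U => Spec.map (CommRingCat.ofHom (awayEquiv n A i).symm.toRingHom) ⁻¹ᵁ U)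
    (Proj.awayι_preimage_basicOpen (CohB1.polyGrading n A) (X_mem n A i) one_pos hg one_pos)).trans ?_
  ext P
  show (awayEquiv n A i).symm _ ∉ P.asIdeal ↔ _
  rw [he]
  rfl

open Groth.L16.ProjSpace in
theorem toSpec_hyperplane (A : Type u) [CommRing A] [IsDomain A] (n : ℕ)
    [IsIntegral (Spec (CommRingCat.of A))] (H : ↥(CohB1.ProjSpace n A))
    (hH : H.asHomogeneousIdeal.toIdeal = Ideal.span {(MvPolynomial.X 0 : MvPolynomial (Fin (n + 1)) A)}) :
    CohB1.ProjSpace.toSpec n A H = genericPoint (Spec (CommRingCat.of A)) := by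
  rw [genericPoint_eq_bot_of_affine]
  refine PrimeSpectrum.ext ((Submodule.eq_bot_iff _).mpr fun a ha => ?_)
  obtain ⟨i, hi⟩ := exists_mem_basicOpen_X n A H
  obtain ⟨P, hP⟩ : H ∈ (chart n A i).opensRange := (opensRange_chart n A i).symm ▸ hi
  have hPa : (MvPolynomial.C a : MvPolynomial (ChartVar n i) A) ∈ P.asIdeal := by
    rw [← hP, ← Scheme.Hom.comp_apply, chart_toSpec] at ha
    exact ha
  have h1 : (MvPolynomial.C a * MvPolynomial.X i : MvPolynomial (Fin (n + 1)) A) ∈ H.asHomogeneousIdeal.toIdeal := by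
    by_contra hne
    have h2 : P ∈ chart n A i ⁻¹ᵁ (Proj.basicOpen (CohB1.polyGrading n A) (MvPolynomial.C a * MvPolynomial.X i)) := by
      show (chart n A i) P ∈ Proj.basicOpen _ _
      rw [hP]
      exact hne
    rw [chart_preimage_C_mul_X] at h2
    exact h2 hPa
  have h3 : (MvPolynomial.C a : MvPolynomial (Fin (n + 1)) A) ∈ H.asHomogeneousIdeal.toIdeal :=
    (H.isPrime.mem_or_mem h1).resolve_right hi
  rw [hH, Ideal.mem_span_singleton'] at h3
  obtain ⟨r, hr⟩ := h3
  simpa using (congrArg (MvPolynomial.eval₂Hom (RingHom.id A) fun _ => (0 : A)) hr).symm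

theorem ord_div' {Y : Scheme.{u}} [IsIntegral Y] [IsLocallyNoetherian Y] (y : Y) {g g' : Y.functionField}
    (hg : g ≠ 0) (hg' : g' ≠ 0) : Scheme.ord (g / g') y = Scheme.ord g y - Scheme.ord g' y := by
  have h := Scheme.ord_mul (x := y) (div_ne_zero hg hg') hg'
  rw [div_mul_cancel₀ _ hg'] at h
  omega

/-- The coefficient of the hyperplane is determined by the divisor class. -/
theorem proj_principal (A : Type u) [CommRing A] [IsDomain A] [IsNoetherianRing A] (n : ℕ)
    [IsIntegral (CohB1.ProjSpace n A)] [IsLocallyNoetherian (CohB1.ProjSpace n A)]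
    [IsIntegral (Spec (CommRingCat.of A))]
    (hR1 : ∀ x : ↥(Spec (CommRingCat.of A)), Order.coheight x = 1 →
      IsDiscreteValuationRing ↑((Spec (CommRingCat.of A)).presheaf.stalk x))
    (H : ↥(CohB1.ProjSpace n A))
    (hH : H.asHomogeneousIdeal.toIdeal = Ideal.span {(MvPolynomial.X 0 : MvPolynomial (Fin (n + 1)) A)})
    (D : ↥(Spec (CommRingCat.of A)) → ℤ) (hD : ∀ x, Order.coheight x ≠ 1 → D x = 0)
    (g : ↑(CohB1.ProjSpace n A).functionField) (hg : g ≠ 0)
    (h : ∀ y, y ≠ H → Order.coheight y = 1 → Scheme.ord g y = D (CohB1.ProjSpace.toSpec n A y)) :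
    Scheme.ord g H = 0 ∧ ∃ f : ↑(Spec (CommRingCat.of A)).functionField, f ≠ 0 ∧
      ∀ x : ↥(Spec (CommRingCat.of A)), Order.coheight x = 1 → Scheme.ord f x = D x := by
  obtain ⟨f, hf, hfg, hfo⟩ := principal (fun _ : PUnit.{1} => projChart A n) (fun x _ => ⟨PUnit.unit, x, rfl⟩)
    hR1 D hD g hg fun k P hP => h _ (fun he => (range_projChart A n H).mp ⟨P, he⟩
      (hH.ge (Ideal.mem_span_singleton_self _))) hP
  refine ⟨?_, f, hf, hfo⟩
  rw [← hfg]
  exact ord_ffPull_eq_zero _ _ H (toSpec_hyperplane A n H hH) hf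

end Groth.L06.DivPullback

end
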