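import Groth.Agent.L06.DivPullback.Poly

/-!
# Divisor class groups and polynomial extensions

For a morphism which is, in charts, `Spec A[T] → Spec A`, pullback of Weil divisors identifies divisor classes.
-/

set_option autoImplicit false
set_option maxSynthPendingDepth 3
set_option linter.style.haveILetI false
set_option backward.isDefEq.respectTransparency.types false

universe u

open CategoryTheory AlgebraicGeometry MvPolynomial

noncomputable section

namespace Groth.L06.DivPullback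

open Groth.L22.Div.OrdRestrict (ffMap ffMap_bijective ord_ffMap coheight_eq)

variable {X Y : Scheme.{u}}

/-- A chart of `q` isomorphic to a polynomial ring over a Noetherian domain. -/
structure Chart (q : Y ⟶ X) where
  σ : Type u
  fin : Finite σ
  A : CommRingCat.{u}
  dom : IsDomain A
  noeth : IsNoetherianRing A
  j : Spec (PR σ A) ⟶ Y
  hj : IsOpenImmersion j
  i : Spec A ⟶ X
  hi : IsOpenImmersion i
  comm : j ≫ q = Spec.map (CHom σ A) ≫ i

attribute [instance] Chart.fin Chart.dom Chart.noeth Chart.hj Chart.hi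

namespace Chart

variable {q : Y ⟶ X} (c : Chart q)

theorem comm_apply (P : Spec (PR c.σ c.A)) : q (c.j P) = c.i ((Spec.map (CHom c.σ c.A)) P) := by
  rw [← Scheme.Hom.comp_apply, c.comm, Scheme.Hom.comp_apply]

variable [IsIntegral X] [IsIntegral Y]

theorem gen_Spec : (Spec.map (CHom c.σ c.A)) (genericPoint (Spec (PR c.σ c.A))) = genericPoint (Spec c.A) :=
  genericPoint_SpecMap _ (MvPolynomial.C_injective c.σ c.A)

include c in
theorem gen_eq : q (genericPoint Y) = genericPoint X := by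
  rw [← genericPoint_eq_of_isOpenImmersion c.j, c.comm_apply, c.gen_Spec, genericPoint_eq_of_isOpenImmersion]

theorem bot_iff (P : Spec (PR c.σ c.A)) :
    q (c.j P) = genericPoint X ↔ ((Spec.map (CHom c.σ c.A)) P).asIdeal = ⊥ := by
  rw [c.comm_apply, ← genericPoint_eq_of_isOpenImmersion c.i, c.i.isOpenEmbedding.injective.eq_iff,
    genericPoint_eq_bot_of_affine]
  exact ⟨fun h => congrArg PrimeSpectrum.asIdeal h, fun h => PrimeSpectrum.ext h⟩

theorem compat : ffPull q c.gen_eq ≫ ffMap c.j = ffMap c.i ≫ ffPull (Spec.map (CHom c.σ c.A)) c.gen_Spec := by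
  rw [ffMap_eq, ffMap_eq, ← ffPull_comp, ← ffPull_comp]
  exact ffPull_congr c.comm _ _

variable [IsLocallyNoetherian X] [IsLocallyNoetherian Y]

/-- A rational function with no horizontal zeros or poles comes from the base. -/
theorem exists_eq_ffPull (g : Y.functionField) (hg : g ≠ 0)
    (h : ∀ P : Spec (PR c.σ c.A), Order.coheight P = 1 → q (c.j P) = genericPoint X → Scheme.ord g (c.j P) = 0) :
    ∃ f : X.functionField, f ≠ 0 ∧ (ffPull q c.gen_eq).hom f = g := by
  obtain ⟨a, b, hb, hab⟩ := exists_div (PR c.σ c.A) ((ffMap c.j).hom g)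
  have hjg : (ffMap c.j).hom g ≠ 0 := (map_ne_zero_iff _ (ffMap_bijective c.j).1).mpr hg
  have ha : a ≠ 0 := fun h0 => hjg (by rw [hab, h0, map_zero, zero_div])
  obtain ⟨u, v, hu, hv, he⟩ := exists_C_mul_eq ha hb fun P hP hPh => by
    have h1 := h P hP ((c.bot_iff P).mpr hPh)
    rw [← ord_ffMap c.j g hg hP, hab, ord_div P ha hb] at h1
    omega
  obtain ⟨f, hf⟩ := (ffMap_bijective c.i).2 (ι c.A u / ι c.A v)
  have key : (ffMap c.j).hom ((ffPull q c.gen_eq).hom f) = (ffMap c.j).hom g := by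
    have h1 := DFunLike.congr_fun (CommRingCat.hom_ext_iff.mp c.compat) f
    refine h1.trans ?_
    show (ffPull (Spec.map (CHom c.σ c.A)) c.gen_Spec).hom ((ffMap c.i).hom f) = _
    rw [hf, map_div₀, ffPull_Spec, ffPull_Spec, hab, div_eq_div_iff]
    · rw [← map_mul, ← map_mul]
      exact congrArg _ (show (C u : MvPolynomial c.σ c.A) * b = a * C v from he.symm.trans (mul_comm _ _))
    · exact ι_ne_zero _ (C_ne_zero' hv)
    · exact ι_ne_zero _ hb
  refine ⟨f, fun h0 => hg ?_, (ffMap_bijective c.j).1 key⟩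
  rw [← (ffMap_bijective c.j).1 key, h0, map_zero]

/-- The prime divisor over a prime divisor of the base. -/
theorem exists_over (p : Spec c.A) (hp : Order.coheight p = 1)
    (hdvr : IsDiscreteValuationRing (X.presheaf.stalk (c.i p))) :
    ∃ P : Spec (PR c.σ c.A), Order.coheight (c.j P) = 1 ∧ q (c.j P) = c.i p ∧
      ∀ f : X.functionField, f ≠ 0 → Scheme.ord ((ffPull q c.gen_eq).hom f) (c.j P) = Scheme.ord f (c.i p) := by
  have hdvr' : IsDiscreteValuationRing ((Spec c.A).presheaf.stalk p) :=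
    haveI := hdvr
    IsDiscreteValuationRing.RingEquivClass.isDiscreteValuationRing
      (asIso (c.i.stalkMap p)).commRingCatIsoToRingEquiv
  obtain ⟨π, hπ⟩ := exists_unif_of_DVR hp hdvr'
  have hP := coheight_eq_one (isUnif_pExt (σ := c.σ) hπ)
  refine ⟨pExt p, (coheight_eq c.j _).trans hP, by rw [c.comm_apply, map_pExt], fun f hf => ?_⟩
  rw [← ord_ffMap c.j _ (ffPull_ne_zero q c.gen_eq hf) hP, ← ord_ffMap c.i f hf hp]
  have h1 := DFunLike.congr_fun (CommRingCat.hom_ext_iff.mp c.compat) f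
  rw [show (ffMap c.j).hom ((ffPull q c.gen_eq).hom f) =
    (ffPull (Spec.map (CHom c.σ c.A)) c.gen_Spec).hom ((ffMap c.i).hom f) from h1]
  obtain ⟨a, b, hb, hab⟩ := exists_div c.A ((ffMap c.i).hom f)
  have ha : a ≠ 0 := fun h0 => (map_ne_zero_iff _ (ffMap_bijective c.i).1).mpr hf (by rw [hab, h0, map_zero, zero_div])
  rw [hab, map_div₀, ffPull_Spec, ffPull_Spec, ord_div p ha hb]
  show Scheme.ord (ι (PR c.σ c.A) (C a) / ι (PR c.σ c.A) (C b)) (pExt p) = _
  rw [ord_div _ (C_ne_zero' ha) (C_ne_zero' hb), ord_pExt hπ ha, ord_pExt hπ hb]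

/-- A vertical prime divisor lies over a prime divisor and is determined by it. -/
theorem vertical {P : Spec (PR c.σ c.A)} (hP : Order.coheight (c.j P) = 1) (h : q (c.j P) ≠ genericPoint X) :
    Order.coheight (q (c.j P)) = 1 ∧ c.j P = c.j (pExt ((Spec.map (CHom c.σ c.A)) P)) := by
  have hP' : Order.coheight P = 1 := (coheight_eq c.j P).symm.trans hP
  obtain ⟨he, hp⟩ := eq_pExt hP' fun h0 => h ((c.bot_iff P).mpr h0)
  exact ⟨by rw [c.comm_apply, coheight_eq c.i]; exact hp, congrArg _ he⟩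

theorem finite_ord_ne_zero_range (g : Y.functionField) (hg : g ≠ 0) :
    {y : Y | y ∈ Set.range c.j ∧ Scheme.ord g y ≠ 0}.Finite := by
  refine ((finite_ord_ne_zero ((ffMap c.j).hom g)).image c.j).subset ?_
  rintro _ ⟨⟨P, rfl⟩, hP⟩
  refine ⟨P, ?_, rfl⟩
  have h1 : Order.coheight (c.j P) = 1 := by_contra fun h => hP (Scheme.ord_eq_zero_of_coheight_neq_one h _)
  show Scheme.ord _ P ≠ 0
  rw [ord_ffMap c.j g hg ((coheight_eq c.j P).symm.trans h1)]
  exact hP

end Chart

variable [IsIntegral X] [IsIntegral Y] [IsLocallyNoetherian X] [IsLocallyNoetherian Y]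

theorem coheight_genericPoint : Order.coheight (genericPoint X) = 0 :=
  Order.coheight_eq_zero.mpr fun y _ => (genericPoint_spec X).specializes trivial

/-- A divisor whose pullback is principal is principal. -/
theorem principal {q : Y ⟶ X} {I : Type*} [Nonempty I] (c : I → Chart q)
    (hcov : ∀ x : X, Order.coheight x = 1 → ∃ k, x ∈ Set.range (c k).i)
    (hR1 : ∀ x : X, Order.coheight x = 1 → IsDiscreteValuationRing (X.presheaf.stalk x))
    (D : X → ℤ) (hD : ∀ x, Order.coheight x ≠ 1 → D x = 0) (g : Y.functionField) (hg : g ≠ 0)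
    (h : ∀ (k : I) (P : Spec (PR (c k).σ (c k).A)), Order.coheight ((c k).j P) = 1 →
      Scheme.ord g ((c k).j P) = D (q ((c k).j P))) :
    ∃ f : X.functionField, f ≠ 0 ∧ (ffPull q (c (Classical.arbitrary I)).gen_eq).hom f = g ∧
      ∀ x : X, Order.coheight x = 1 → Scheme.ord f x = D x := by
  have hconst : ∀ k, ∃ f : X.functionField, f ≠ 0 ∧ (ffPull q (c k).gen_eq).hom f = g := fun k =>
    (c k).exists_eq_ffPull g hg fun P hP hPh => by
      rw [h k P ((coheight_eq (c k).j P).trans hP), hPh, hD]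
      rw [coheight_genericPoint]
      exact zero_ne_one
  obtain ⟨f, hf, hfg⟩ := hconst (Classical.arbitrary I)
  refine ⟨f, hf, hfg, fun x hx => ?_⟩
  obtain ⟨k, p, rfl⟩ := hcov x hx
  obtain ⟨P, hP, hqP, hord⟩ := (c k).exists_over p ((coheight_eq (c k).i p).symm.trans hx) (hR1 _ hx)
  rw [← hord f hf, hfg, h k P hP, hqP]

/-- Every divisor on the source is linearly equivalent to a pullback, away from the exceptional set. -/
theorem exists_decomp {q : Y ⟶ X} {I : Type*} [Nonempty I] [Finite I] (c : I → Chart q) (E : Set Y)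
    (hcov : ∀ x : X, ∃ k, x ∈ Set.range (c k).i)
    (hrange : ∀ (k : I) (y : Y), y ∉ E → Order.coheight y = 1 → q y ∈ Set.range (c k).i → y ∈ Set.range (c k).j)
    (D' : Y → ℤ) (hfin : {y | D' y ≠ 0}.Finite) :
    ∃ (D : X → ℤ) (g : Y.functionField), (∀ x, Order.coheight x ≠ 1 → D x = 0) ∧ {x | D x ≠ 0}.Finite ∧ g ≠ 0 ∧
      ∀ y : Y, y ∉ E → Order.coheight y = 1 → D' y = D (q y) + Scheme.ord g y := by
  classical
  let c₀ := c (Classical.arbitrary I)
  have hS : {P : Spec (PR c₀.σ c₀.A) | Order.coheight P = 1 ∧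
      ((Spec.map (CHom c₀.σ c₀.A)) P).asIdeal = ⊥ ∧ D' (c₀.j P) ≠ 0}.Finite :=
    (hfin.preimage (c₀.j.isOpenEmbedding.injective.injOn)).subset fun P hP => hP.2.2
  obtain ⟨g₀, hg₀, hgo⟩ := exists_ord_eq (fun P => D' (c₀.j P)) hS.toFinset
    fun P hP => ⟨(hS.mem_toFinset.mp hP).1, (hS.mem_toFinset.mp hP).2.1⟩
  obtain ⟨g, rfl⟩ := (ffMap_bijective c₀.j).2 g₀
  have hg : g ≠ 0 := fun h0 => hg₀ (by rw [h0, map_zero])
  have hgen : genericPoint X ∈ Set.range c₀.i := ⟨_, genericPoint_eq_of_isOpenImmersion c₀.i⟩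
  have hhor : ∀ y, y ∉ E → Order.coheight y = 1 → q y = genericPoint X → Scheme.ord g y = D' y := by
    intro y hyE hy hqy
    obtain ⟨P, rfl⟩ := hrange (Classical.arbitrary I) y hyE hy (hqy ▸ hgen)
    have hP : Order.coheight P = 1 := (coheight_eq c₀.j P).symm.trans hy
    have hPh := (c₀.bot_iff P).mp hqy
    rw [← ord_ffMap c₀.j g hg hP]
    by_cases h0 : D' (c₀.j P) = 0
    · rw [(hgo P hP hPh).2 fun h => (hS.mem_toFinset.mp h).2.2 h0]
      exact h0.symm
    · exact (hgo P hP hPh).1 (hS.mem_toFinset.mpr ⟨hP, hPh, h0⟩)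
  let good : X → Y → Prop := fun x y => y ∉ E ∧ Order.coheight y = 1 ∧ q y = x
  let D : X → ℤ := fun x =>
    if h : Order.coheight x = 1 ∧ ∃ y, good x y then D' h.2.choose - Scheme.ord g h.2.choose else 0
  refine ⟨D, g, fun x hx => dif_neg fun h => hx h.1, ?_, hg, fun y hyE hy => ?_⟩
  · refine ((hfin.union (Set.finite_iUnion fun k => (c k).finite_ord_ne_zero_range g hg)).image q).subset ?_
    intro x hx
    by_cases h : Order.coheight x = 1 ∧ ∃ y, good x y
    swap
    · exact absurd (dif_neg h) hx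
    obtain ⟨hyE, hy, hqy⟩ := h.2.choose_spec
    refine ⟨h.2.choose, ?_, hqy⟩
    by_contra hne
    simp only [Set.mem_union, Set.mem_iUnion, not_or, not_exists] at hne
    obtain ⟨k, hk⟩ := hcov x
    have h1 : D' h.2.choose = 0 := not_not.mp hne.1
    have h2 : Scheme.ord g h.2.choose = 0 := not_not.mp fun h' =>
      hne.2 k ⟨hrange k _ hyE hy (hqy.symm ▸ hk), h'⟩
    exact hx ((dif_pos h).trans (by rw [h1, h2, sub_zero]))
  · by_cases hqy : q y = genericPoint X
    · have : D (q y) = 0 := dif_neg fun h => by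
        have h1 := h.1
        rw [hqy, coheight_genericPoint] at h1
        exact zero_ne_one h1
      rw [this, hhor y hyE hy hqy, zero_add]
    · obtain ⟨k, hk⟩ := hcov (q y)
      obtain ⟨P, hPy⟩ := hrange k y hyE hy hk
      obtain ⟨hco, hv⟩ := (c k).vertical (P := P) (hPy.symm ▸ hy) (hPy.symm ▸ hqy)
      have hgood : Order.coheight (q y) = 1 ∧ ∃ y', good (q y) y' := ⟨by rwa [hPy] at hco, y, hyE, hy, rfl⟩
      obtain ⟨hyE', hy', hqy'⟩ := hgood.2.choose_spec
      obtain ⟨P', hP'⟩ := hrange k _ hyE' hy' (hqy'.symm ▸ hk)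
      obtain ⟨-, hv'⟩ := (c k).vertical (P := P') (hP'.symm ▸ hy') (hP'.symm ▸ hqy'.symm ▸ hqy)
      have hpp : (Spec.map (CHom (c k).σ (c k).A)) P' = (Spec.map (CHom (c k).σ (c k).A)) P :=
        (c k).i.isOpenEmbedding.injective (by
          rw [← (c k).comm_apply, ← (c k).comm_apply, hP', hPy, hqy'])
      have heq : hgood.2.choose = y := by rw [← hP', hv', hpp, ← hv, hPy]
      have hDy : D (q y) = D' y - Scheme.ord g y := (dif_pos hgood).trans (by rw [heq])
      omega

end Groth.L06.DivPullback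

end
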