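import Groth.Agent.L06.DivPullback.Pull
import Mathlib.RingTheory.Polynomial.UniqueFactorization
import Mathlib.RingTheory.Polynomial.Nilpotent
import Mathlib.RingTheory.Polynomial.Basic

/-!
# Prime divisors of a polynomial ring over a Noetherian domain

A coheight one point of `Spec A[T]` is either the extension of a coheight one point of `Spec A`, or is cut
out by an irreducible polynomial over the fraction field.
-/

set_option autoImplicit false
set_option maxSynthPendingDepth 3
set_option linter.style.haveILetI false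
set_option backward.isDefEq.respectTransparency.types false

universe u

open CategoryTheory AlgebraicGeometry MvPolynomial

noncomputable section

namespace Groth.L06.DivPullback

variable (σ : Type u) (A : CommRingCat.{u})

/-- The polynomial ring. -/
abbrev PR : CommRingCat.{u} := CommRingCat.of (MvPolynomial σ A)

/-- The inclusion of constants. -/
abbrev CHom : A ⟶ PR σ A := CommRingCat.ofHom (MvPolynomial.C (σ := σ))

variable [IsDomain A]

variable {σ A}

/-- The extension of a prime of `A` to the polynomial ring. -/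
def pExt (p : Spec A) : Spec (PR σ A) :=
  ⟨p.asIdeal.map (MvPolynomial.C (σ := σ)), by
    rw [← Ideal.mk_ker (I := p.asIdeal), ← MvPolynomial.ker_map]
    exact RingHom.ker_isPrime _⟩

theorem mem_pExt {p : Spec A} {a : A} : C a ∈ (pExt (σ := σ) p).asIdeal ↔ a ∈ p.asIdeal := by
  refine ⟨fun h => ?_, fun h => Ideal.mem_map_of_mem _ h⟩
  simpa using (MvPolynomial.mem_map_C_iff.mp h) 0

theorem map_pExt (p : Spec A) : (Spec.map (CHom σ A)) (pExt p) = p :=
  PrimeSpectrum.ext (Ideal.ext fun _ => mem_pExt)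

theorem pExt_ne_bot {p : Spec A} (h : p.asIdeal ≠ ⊥) : (pExt (σ := σ) p).asIdeal ≠ ⊥ := by
  obtain ⟨a, ha, ha0⟩ := Submodule.exists_mem_ne_zero_of_ne_bot h
  refine fun h0 => ha0 ((C_injective σ A) ?_)
  rw [map_zero]
  exact (h0.le (mem_pExt.mpr ha) : C a ∈ (⊥ : Ideal (MvPolynomial σ A)))

variable [IsNoetherianRing A]

theorem exists_unif_of_DVR {p : Spec A} (hp : Order.coheight p = 1)
    (h : IsDiscreteValuationRing ((Spec A).presheaf.stalk p)) : ∃ π : A, IsUnif p.asIdeal π := by
  haveI := stalk_isLocalization p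
  obtain ⟨ϖ, hϖ⟩ := IsDiscreteValuationRing.exists_irreducible ((Spec A).presheaf.stalk p)
  have hm := hϖ.maximalIdeal_eq
  obtain ⟨π, t, rfl⟩ := IsLocalization.exists_mk'_eq p.asIdeal.primeCompl ϖ
  have hπ0 : π ≠ 0 := fun h0 => hϖ.ne_zero (by rw [h0, IsLocalization.mk'_zero])
  refine ⟨π, ?_, hπ0, fun a ha => ?_⟩
  · refine (IsLocalization.AtPrime.mk'_mem_maximal_iff ((Spec A).presheaf.stalk p) p.asIdeal π t).mp ?_
    rw [hm]; exact Ideal.mem_span_singleton_self _
  · have : algebraMap A ((Spec A).presheaf.stalk p) a ∈ IsLocalRing.maximalIdeal _ :=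
      (IsLocalization.AtPrime.to_map_mem_maximal_iff _ p.asIdeal a).mpr ha
    rw [hm, Ideal.mem_span_singleton'] at this
    obtain ⟨y, hy⟩ := this
    obtain ⟨r, s, rfl⟩ := IsLocalization.exists_mk'_eq p.asIdeal.primeCompl y
    rw [← IsLocalization.mk'_mul, IsLocalization.mk'_eq_iff_eq_mul, ← map_mul] at hy
    obtain ⟨c, hc⟩ := (IsLocalization.eq_iff_exists p.asIdeal.primeCompl _).mp hy
    refine ⟨c * (s * t), mul_mem c.2 (mul_mem s.2 t.2), c * r, ?_⟩
    have hc' : (c : A) * (r * π) = c * (a * (s * t)) := hc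
    linear_combination -hc'

theorem isUnif_pExt {p : Spec A} {π : A} (h : IsUnif p.asIdeal π) :
    IsUnif (pExt (σ := σ) p).asIdeal (C π) := by
  refine ⟨mem_pExt.mpr h.1, fun h0 => h.2.1 (C_injective σ A (h0.trans (map_zero _).symm)), fun x hx => ?_⟩
  induction hx using Submodule.span_induction with
  | mem x hx =>
    obtain ⟨a, ha, rfl⟩ := hx
    obtain ⟨s, hs, r, hr⟩ := h.2.2 a ha
    exact ⟨C s, fun h => hs (mem_pExt.mp h), C r, by rw [← map_mul, ← map_mul, hr]⟩
  | zero => exact ⟨1, (pExt p).isPrime.one_notMem, 0, by simp⟩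
  | add x y _ _ hx hy =>
    obtain ⟨s, hs, r, hr⟩ := hx
    obtain ⟨s', hs', r', hr'⟩ := hy
    exact ⟨s * s', fun h => ((pExt p).isPrime.mem_or_mem h).elim hs hs', s' * r + s * r', by
      linear_combination s' * hr + s * hr'⟩
  | smul a x _ hx =>
    obtain ⟨s, hs, r, hr⟩ := hx
    exact ⟨s, hs, a * r, by rw [smul_eq_mul]; linear_combination a * hr⟩

variable [Finite σ]

theorem coheight_pExt {p : Spec A} (hp : Order.coheight p = 1)
    (h : IsDiscreteValuationRing ((Spec A).presheaf.stalk p)) : Order.coheight (pExt (σ := σ) p) = 1 :=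
  let ⟨_, hπ⟩ := exists_unif_of_DVR hp h
  coheight_eq_one (isUnif_pExt hπ)

theorem eq_pExt {P : Spec (PR σ A)} (hP : Order.coheight P = 1)
    (h : ((Spec.map (CHom σ A)) P).asIdeal ≠ ⊥) :
    P = pExt ((Spec.map (CHom σ A)) P) ∧ Order.coheight ((Spec.map (CHom σ A)) P) = 1 := by
  set p := (Spec.map (CHom σ A)) P with hp
  have hle : (pExt (σ := σ) p).asIdeal ≤ P.asIdeal := Ideal.map_le_iff_le_comap.mpr le_rfl
  have he := eq_of_le hP (pExt_ne_bot h) hle
  refine ⟨he.symm, le_antisymm ?_ ?_⟩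
  · refine Order.coheight_le fun l hl => ?_
    by_contra hlen
    have hlen' : 2 ≤ l.length := by
      rw [not_le] at hlen
      exact_mod_cast hlen
    -- a nonzero prime strictly inside `p`
    let i₁ : Fin (l.length + 1) := ⟨1, by omega⟩
    let i₂ : Fin (l.length + 1) := ⟨2, by omega⟩
    have h01 : l.head < l i₁ := l.strictMono (show (0 : Fin (l.length + 1)) < i₁ from Nat.one_pos)
    have h12 : l i₁ < l i₂ := l.strictMono (show i₁ < i₂ from Nat.one_lt_two)
    rw [hl] at h01
    have hlt : (l i₁).asIdeal < p.asIdeal := lt_of_le_not_ge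
      ((AffineSpace.spec_le_iff A _ _).mp h01.le) fun h' => h01.not_ge ((AffineSpace.spec_le_iff A _ _).mpr h')
    have hne : (l i₁).asIdeal ≠ ⊥ := fun h' =>
      h12.not_ge ((AffineSpace.spec_le_iff A _ _).mpr (h'.le.trans bot_le))
    have hle1 : (pExt (σ := σ) (l i₁)).asIdeal ≤ P.asIdeal := (Ideal.map_mono hlt.le).trans hle
    have he1 := congrArg (Spec.map (CHom σ A)).base (eq_of_le hP (pExt_ne_bot hne) hle1)
    rw [map_pExt] at he1
    exact hlt.ne (congrArg PrimeSpectrum.asIdeal he1)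
  · refine Order.one_le_iff_pos.mpr (pos_iff_ne_zero.mpr fun h0 => h ?_)
    rw [Order.coheight_eq_zero] at h0
    exact le_bot_iff.mp ((AffineSpace.spec_le_iff A _ _).mp
      (h0 (b := (⟨⊥, Ideal.isPrime_bot⟩ : Spec A)) ((AffineSpace.spec_le_iff A _ _).mpr bot_le)))

theorem ord_pExt {p : Spec A} {π : A} (h : IsUnif p.asIdeal π) {a : A} (ha : a ≠ 0) :
    Scheme.ord (ι (PR σ A) (C a)) (pExt p) = Scheme.ord (ι A a) p := by
  have hC : ∀ {a : A}, a ≠ 0 → (C a : MvPolynomial σ A) ≠ 0 := fun ha h0 =>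
    ha (C_injective σ A (h0.trans (map_zero _).symm))
  suffices ∀ n : ℕ, ∀ a : A, a ≠ 0 → Scheme.ord (ι A a) p ≤ n →
      Scheme.ord (ι (PR σ A) (C a)) (pExt p) = Scheme.ord (ι A a) p from
    this (Scheme.ord (ι A a) p).toNat a ha (by have := ord_nonneg p ha; omega)
  intro n
  induction n with
  | zero =>
    intro a ha hn
    by_cases hap : a ∈ p.asIdeal
    · obtain ⟨s, hs, r, hr⟩ := h.2.2 a hap
      have h1 := ord_step h ha hs hr
      have := ord_nonneg p (a := r) fun h0 => mul_ne_zero (fun (h' : s = 0) => hs (h'.symm ▸ zero_mem _)) ha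
        (hr.trans (by rw [h0, mul_zero]))
      omega
    · rw [ord_eq_zero hap, ord_eq_zero fun h' => hap (mem_pExt.mp h')]
  | succ n ih =>
    intro a ha hn
    by_cases hap : a ∈ p.asIdeal
    · obtain ⟨s, hs, r, hr⟩ := h.2.2 a hap
      have hr0 : r ≠ 0 := fun h0 => mul_ne_zero (fun (h' : s = 0) => hs (h'.symm ▸ zero_mem _)) ha
        (hr.trans (by rw [h0, mul_zero]))
      have h1 := ord_step h ha hs hr
      have h2 := ord_step (isUnif_pExt (σ := σ) h) (hC ha) (fun h' => hs (mem_pExt.mp h'))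
        (show C s * C a = C π * (C r : MvPolynomial σ A) by rw [← map_mul, ← map_mul, hr])
      rw [h1, h2, ih r hr0 (by omega)]
    · rw [ord_eq_zero hap, ord_eq_zero fun h' => hap (mem_pExt.mp h')]

section Generic

/-- Polynomials over the fraction field. -/
abbrev KPoly (σ : Type u) (A : CommRingCat.{u}) [IsDomain A] : Type u := MvPolynomial σ (FractionRing A)

/-- Extension of coefficients to the fraction field. -/
abbrev toK (σ : Type u) (A : CommRingCat.{u}) [IsDomain A] : MvPolynomial σ A →+* KPoly σ A :=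
  MvPolynomial.map (algebraMap A (FractionRing A))

omit [IsNoetherianRing A] [Finite σ] in
theorem toK_injective : Function.Injective (toK σ A) :=
  MvPolynomial.map_injective _ (IsFractionRing.injective A (FractionRing A))

omit [IsNoetherianRing A] [Finite σ] in
theorem toK_ne_zero {x : MvPolynomial σ A} (hx : x ≠ 0) : toK σ A x ≠ 0 :=
  (map_ne_zero_iff _ toK_injective).mpr hx

omit [IsNoetherianRing A] [Finite σ] in
theorem isUnit_toK_C {d : A} (hd : d ≠ 0) : IsUnit (toK σ A (C d)) := by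
  rw [MvPolynomial.map_C]
  exact ((map_ne_zero_iff _ (IsFractionRing.injective A (FractionRing A))).mpr hd).isUnit.map C

omit [IsNoetherianRing A] [Finite σ] in
theorem clear_denom (y : KPoly σ A) : ∃ (d : A) (r : MvPolynomial σ A), d ≠ 0 ∧ toK σ A (C d) * y = toK σ A r := by
  induction y using MvPolynomial.induction_on with
  | C k =>
    obtain ⟨a, b, hb, rfl⟩ := IsFractionRing.div_surjective (A := A) k
    refine ⟨b, C a, nonZeroDivisors.ne_zero hb, ?_⟩
    rw [MvPolynomial.map_C, MvPolynomial.map_C, ← map_mul, mul_div_cancel₀]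
    exact (map_ne_zero_iff _ (IsFractionRing.injective A (FractionRing A))).mpr (nonZeroDivisors.ne_zero hb)
  | add p q hp hq =>
    obtain ⟨d, r, hd, hr⟩ := hp
    obtain ⟨d', r', hd', hr'⟩ := hq
    refine ⟨d * d', C d' * r + C d * r', mul_ne_zero hd hd', ?_⟩
    rw [map_mul C, map_mul (toK σ A), map_add, map_mul (toK σ A), map_mul (toK σ A)]
    linear_combination toK σ A (C d') * hr + toK σ A (C d) * hr'
  | mul_X p i hp =>
    obtain ⟨d, r, hd, hr⟩ := hp
    exact ⟨d, r * X i, hd, by rw [map_mul, ← hr, MvPolynomial.map_X, mul_assoc]⟩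

omit [IsNoetherianRing A] [Finite σ] in
theorem exists_of_dvd {f a : MvPolynomial σ A} (h : toK σ A f ∣ toK σ A a) :
    ∃ (d : A) (r : MvPolynomial σ A), d ≠ 0 ∧ C d * a = f * r := by
  obtain ⟨y, hy⟩ := h
  obtain ⟨d, r, hd, hr⟩ := clear_denom y
  refine ⟨d, r, hd, toK_injective ?_⟩
  rw [map_mul, map_mul, hy, ← hr]
  ring

/-- The prime cut out by a polynomial irreducible over the fraction field. -/
def hPt {f : MvPolynomial σ A} (hf : Prime (toK σ A f)) : Spec (PR σ A) :=
  ⟨(Ideal.span {toK σ A f}).comap (toK σ A),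
    haveI := (Ideal.span_singleton_prime hf.ne_zero).mpr hf
    Ideal.IsPrime.comap _⟩

omit [IsNoetherianRing A] [Finite σ] in
theorem C_notMem_hPt {f : MvPolynomial σ A} (hf : Prime (toK σ A f)) {d : A} (hd : d ≠ 0) :
    C d ∉ (hPt hf).asIdeal := fun h =>
  hf.not_unit (isUnit_of_dvd_unit (Ideal.mem_span_singleton.mp h) (isUnit_toK_C hd))

omit [IsNoetherianRing A] [Finite σ] in
theorem map_hPt {f : MvPolynomial σ A} (hf : Prime (toK σ A f)) :
    ((Spec.map (CHom σ A)) (hPt hf)).asIdeal = ⊥ :=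
  (Submodule.eq_bot_iff _).mpr fun d hd => by_contra fun h0 => C_notMem_hPt hf h0 hd

omit [IsNoetherianRing A] [Finite σ] in
theorem isUnif_hPt {f : MvPolynomial σ A} (hf : Prime (toK σ A f)) : IsUnif (hPt hf).asIdeal f := by
  refine ⟨Ideal.mem_span_singleton_self _, fun h => hf.ne_zero (by rw [h, map_zero]), fun a ha => ?_⟩
  obtain ⟨d, r, hd, h⟩ := exists_of_dvd (Ideal.mem_span_singleton.mp ha)
  exact ⟨C d, C_notMem_hPt hf hd, r, h⟩

omit [IsNoetherianRing A] [Finite σ] in
theorem C_notMem {P : Spec (PR σ A)} (h : ((Spec.map (CHom σ A)) P).asIdeal = ⊥) {d : A} (hd : d ≠ 0) :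
    C d ∉ P.asIdeal := fun h' =>
  hd ((Submodule.eq_bot_iff _).mp h d h')

theorem eq_hPt_of_mem {P : Spec (PR σ A)} (hP : Order.coheight P = 1)
    (h : ((Spec.map (CHom σ A)) P).asIdeal = ⊥) {f : MvPolynomial σ A} (hf : Prime (toK σ A f))
    (hfP : f ∈ P.asIdeal) : P = hPt hf := by
  refine (eq_of_le hP ?_ fun x hx => ?_).symm
  · intro h0
    have h1 := h0.le (isUnif_hPt hf).1
    exact (isUnif_hPt hf).2.1 (by simpa using h1)
  · obtain ⟨d, r, hd, hdr⟩ := exists_of_dvd (Ideal.mem_span_singleton.mp hx)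
    refine (P.isPrime.mem_or_mem (hdr ▸ Ideal.mul_mem_right r _ hfP)).resolve_left ?_
    exact C_notMem h hd

omit [IsNoetherianRing A] [Finite σ] in
theorem exists_C_eq_of_isUnit {a : MvPolynomial σ A} (ha : IsUnit (toK σ A a)) :
    ∃ c : A, c ≠ 0 ∧ a = C c := by
  classical
  obtain ⟨k, hk, he⟩ := MvPolynomial.isUnit_iff_eq_C_of_isReduced.mp ha
  have hsupp : a = C (coeff 0 a) := by
    ext m
    rw [coeff_C]
    split_ifs with hm
    · rw [← hm]
    · refine IsFractionRing.injective A (FractionRing A) ?_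
      rw [map_zero, ← MvPolynomial.coeff_map, show MvPolynomial.map (algebraMap A (FractionRing A)) a = C k from he,
        coeff_C, if_neg hm]
  refine ⟨coeff 0 a, fun h0 => ?_, hsupp⟩
  rw [hsupp, h0, map_zero, map_zero] at ha
  exact not_isUnit_zero ha

omit [IsNoetherianRing A] [Finite σ] in
theorem C_ne_zero' {e : A} (he : e ≠ 0) : (C e : MvPolynomial σ A) ≠ 0 := fun h0 =>
  he (C_injective σ A (h0.trans (map_zero _).symm))

omit [IsNoetherianRing A] [Finite σ] in
theorem associated_cofactor {a f r : MvPolynomial σ A} {x q : KPoly σ A} {e : A} (hq : Prime q)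
    (hfq : Associated (toK σ A f) q) (he : e ≠ 0) (hr : C e * a = f * r) (hax : Associated (toK σ A a) (q * x)) :
    Associated (toK σ A r) x := by
  refine Associated.of_mul_left (a := toK σ A f) (c := q) ?_ hfq (hfq.symm.prime hq).ne_zero
  rw [← map_mul, ← hr, map_mul]
  exact (associated_unit_mul_left _ _ (isUnit_toK_C he)).trans hax

theorem exists_prime_mem {P : Spec (PR σ A)} (hP : Order.coheight P = 1)
    (h : ((Spec.map (CHom σ A)) P).asIdeal = ⊥) :
    ∃ f : MvPolynomial σ A, f ∈ P.asIdeal ∧ Prime (toK σ A f) := by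
  obtain ⟨a, haP, ha0⟩ := Submodule.exists_mem_ne_zero_of_ne_bot (ne_bot_of_coheight hP)
  suffices ∀ x : KPoly σ A, ∀ a : MvPolynomial σ A, a ≠ 0 → a ∈ P.asIdeal → Associated (toK σ A a) x →
      ∃ f : MvPolynomial σ A, f ∈ P.asIdeal ∧ Prime (toK σ A f) from this _ a ha0 haP (Associated.refl _)
  intro x
  induction x using UniqueFactorizationMonoid.induction_on_prime with
  | h₁ => intro a ha0 _ hax; exact absurd (associated_zero_iff_eq_zero _ |>.mp hax) (toK_ne_zero ha0)
  | h₂ x hx =>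
    intro a ha0 haP hax
    obtain ⟨c, hc, rfl⟩ := exists_C_eq_of_isUnit (hax.symm.isUnit hx)
    exact absurd haP (C_notMem h hc)
  | h₃ x q hx0 hq ih =>
    intro a ha0 haP hax
    obtain ⟨d, f, hd, hf⟩ := clear_denom q
    have hfq : Associated (toK σ A f) q := hf ▸ associated_unit_mul_left q _ (isUnit_toK_C hd)
    obtain ⟨e, r, he, hr⟩ := exists_of_dvd (f := f) (a := a)
      (hfq.dvd.trans ((dvd_mul_right q x).trans hax.symm.dvd))
    rcases P.isPrime.mem_or_mem (hr ▸ Ideal.mul_mem_left P.asIdeal (C e) haP : f * r ∈ P.asIdeal) with hfP | hrP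
    · exact ⟨f, hfP, hfq.symm.prime hq⟩
    · refine ih r (fun h0 => mul_ne_zero (C_ne_zero' he) ha0 (hr.trans (by rw [h0, mul_zero]))) hrP ?_
      exact associated_cofactor hq hfq he hr hax

omit [IsNoetherianRing A] [Finite σ] in
theorem associated_unit_C_mul {e : A} (he : e ≠ 0) (a : MvPolynomial σ A) :
    Associated (toK σ A (C e * a)) (toK σ A a) := by
  rw [map_mul]; exact associated_unit_mul_left _ _ (isUnit_toK_C he)

theorem ord_C_eq_zero {P : Spec (PR σ A)} (h : ((Spec.map (CHom σ A)) P).asIdeal = ⊥) {d : A} (hd : d ≠ 0) :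
    Scheme.ord (ι (PR σ A) (C d)) P = 0 :=
  ord_eq_zero (C_notMem h hd)

/-- Polynomials with the same orders at all horizontal prime divisors agree up to constants. -/
theorem exists_C_mul_eq {a b : MvPolynomial σ A} (ha : a ≠ 0) (hb : b ≠ 0)
    (h : ∀ P : Spec (PR σ A), Order.coheight P = 1 → ((Spec.map (CHom σ A)) P).asIdeal = ⊥ →
      Scheme.ord (ι (PR σ A) a) P = Scheme.ord (ι (PR σ A) b) P) :
    ∃ c d : A, c ≠ 0 ∧ d ≠ 0 ∧ C d * a = C c * b := by
  have key : ∀ x : KPoly σ A, ∀ a b : MvPolynomial σ A, a ≠ 0 → b ≠ 0 → Associated (toK σ A a) x →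
      (∀ P : Spec (PR σ A), Order.coheight P = 1 → ((Spec.map (CHom σ A)) P).asIdeal = ⊥ →
        Scheme.ord (ι (PR σ A) a) P = Scheme.ord (ι (PR σ A) b) P) →
      Associated (toK σ A a) (toK σ A b) := by
    intro x
    induction x using UniqueFactorizationMonoid.induction_on_prime with
    | h₁ => intro a b ha _ hax; exact absurd (associated_zero_iff_eq_zero _ |>.mp hax) (toK_ne_zero ha)
    | h₂ x hx =>
      intro a b ha hb hax hab
      obtain ⟨c, hc, rfl⟩ := exists_C_eq_of_isUnit (hax.symm.isUnit hx)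
      by_contra hne
      have hbu : ¬ IsUnit (toK σ A b) := fun hu => hne (associated_of_dvd_dvd
        (isUnit_toK_C hc).dvd hu.dvd)
      obtain ⟨q, hq, hqb⟩ := WfDvdMonoid.exists_irreducible_factor hbu (toK_ne_zero hb)
      have hq' := UniqueFactorizationMonoid.irreducible_iff_prime.mp hq
      obtain ⟨d, f, hd, hf⟩ := clear_denom q
      have hfq : Associated (toK σ A f) q := hf ▸ associated_unit_mul_left q _ (isUnit_toK_C hd)
      have hfp := hfq.symm.prime hq'
      have hbP : b ∈ (hPt hfp).asIdeal := Ideal.mem_span_singleton.mpr (hfq.dvd.trans hqb)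
      obtain ⟨s, hs, r, hr⟩ := (isUnif_hPt hfp).2.2 b hbP
      have hr0 : r ≠ 0 := fun h0 => mul_ne_zero (fun (h' : s = 0) => hs (h'.symm ▸ zero_mem _)) hb
        (hr.trans (by rw [h0, mul_zero]))
      have h1 := ord_step (isUnif_hPt hfp) hb hs hr
      have h2 := ord_nonneg (hPt hfp) hr0
      have h3 := hab _ (coheight_eq_one (isUnif_hPt hfp)) (map_hPt hfp)
      rw [ord_C_eq_zero (map_hPt hfp) hc] at h3
      omega
    | h₃ x q hx0 hq ih =>
      intro a b ha hb hax hab
      obtain ⟨d, f, hd, hf⟩ := clear_denom q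
      have hfq : Associated (toK σ A f) q := hf ▸ associated_unit_mul_left q _ (isUnit_toK_C hd)
      have hfp := hfq.symm.prime hq
      obtain ⟨e, r, he, hr⟩ := exists_of_dvd (f := f) (a := a)
        (hfq.dvd.trans ((dvd_mul_right q x).trans hax.symm.dvd))
      have hr0 : r ≠ 0 := fun h0 => mul_ne_zero (C_ne_zero' he) ha (hr.trans (by rw [h0, mul_zero]))
      have hbP : b ∈ (hPt hfp).asIdeal := by
        by_contra hbP
        have h1 := ord_step (isUnif_hPt hfp) ha (C_notMem_hPt hfp he) hr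
        have h2 := ord_nonneg (hPt hfp) hr0
        rw [hab _ (coheight_eq_one (isUnif_hPt hfp)) (map_hPt hfp), ord_eq_zero hbP] at h1
        omega
      obtain ⟨e', r', he', hr'⟩ := exists_of_dvd (f := f) (a := b) (Ideal.mem_span_singleton.mp hbP)
      have hr'0 : r' ≠ 0 := fun h0 => mul_ne_zero (C_ne_zero' he') hb (hr'.trans (by rw [h0, mul_zero]))
      have hrr := ih r r' hr0 hr'0 (associated_cofactor hq hfq he hr hax) fun P hP hPh => by
        have h1 := congrArg (fun z => Scheme.ord (ι (PR σ A) z) P) hr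
        have h2 := congrArg (fun z => Scheme.ord (ι (PR σ A) z) P) hr'
        have hf0 : f ≠ 0 := fun h0 => hfp.ne_zero (by rw [h0, map_zero])
        rw [ord_ι_mul P (C_ne_zero' he) ha, ord_ι_mul P hf0 hr0, ord_C_eq_zero hPh he] at h1
        rw [ord_ι_mul P (C_ne_zero' he') hb, ord_ι_mul P hf0 hr'0, ord_C_eq_zero hPh he'] at h2
        have := hab P hP hPh
        omega
      refine ((associated_unit_C_mul he a).symm.trans ?_).trans (associated_unit_C_mul he' b)
      rw [hr, hr', map_mul, map_mul]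
      exact hrr.mul_left _
  obtain ⟨u, hu⟩ := key _ a b ha hb (Associated.refl _) h
  obtain ⟨k, hk, he⟩ := MvPolynomial.isUnit_iff_eq_C_of_isReduced.mp u.isUnit
  obtain ⟨c, d, hd, rfl⟩ := IsFractionRing.div_surjective (A := A) k
  have hd' : algebraMap A (FractionRing A) d ≠ 0 :=
    (map_ne_zero_iff _ (IsFractionRing.injective A (FractionRing A))).mpr (nonZeroDivisors.ne_zero hd)
  refine ⟨d, c, nonZeroDivisors.ne_zero hd, fun h0 => ?_, toK_injective ?_⟩
  · rw [h0, map_zero, zero_div, map_zero] at he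
    exact not_isUnit_zero (he ▸ u.isUnit)
  · rw [map_mul, map_mul, ← hu, he, MvPolynomial.map_C, MvPolynomial.map_C, mul_left_comm, ← map_mul,
      mul_div_cancel₀ _ hd', mul_comm]

/-- A rational function with prescribed orders at the horizontal prime divisors. -/
theorem exists_ord_eq (n : Spec (PR σ A) → ℤ) (s : Finset (Spec (PR σ A)))
    (hs : ∀ P ∈ s, Order.coheight P = 1 ∧ ((Spec.map (CHom σ A)) P).asIdeal = ⊥) :
    ∃ g : (Spec (PR σ A)).functionField, g ≠ 0 ∧
      ∀ P : Spec (PR σ A), Order.coheight P = 1 → ((Spec.map (CHom σ A)) P).asIdeal = ⊥ →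
        (P ∈ s → Scheme.ord g P = n P) ∧ (P ∉ s → Scheme.ord g P = 0) := by
  classical
  induction s using Finset.induction_on with
  | empty =>
    refine ⟨ι (PR σ A) 1, ι_ne_zero _ one_ne_zero, fun P _ _ => ⟨fun h => absurd h (Finset.notMem_empty P), fun _ => ?_⟩⟩
    exact ord_eq_zero P.isPrime.one_notMem
  | insert Q s hQs ih =>
    obtain ⟨hQ, hQh⟩ := hs Q (Finset.mem_insert_self Q s)
    obtain ⟨g, hg, hgo⟩ := ih fun P hP => hs P (Finset.mem_insert_of_mem hP)
    obtain ⟨f, hfQ, hf⟩ := exists_prime_mem hQ hQh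
    have hQe := eq_hPt_of_mem hQ hQh hf hfQ
    have hfn : ι (PR σ A) f ≠ 0 := ι_ne_zero _ fun h => hf.ne_zero (by rw [h, map_zero])
    refine ⟨ι (PR σ A) f ^ n Q * g, mul_ne_zero (zpow_ne_zero _ hfn) hg, fun P hP hPh => ?_⟩
    rw [Scheme.ord_mul (zpow_ne_zero _ hfn) hg, ord_zpow P hfn]
    by_cases hPQ : P = Q
    · subst hPQ
      have h1 : Scheme.ord (ι (PR σ A) f) P = 1 := by rw [hQe]; exact ord_unif (isUnif_hPt hf)
      refine ⟨fun _ => ?_, fun h => absurd (Finset.mem_insert_self P s) h⟩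
      rw [h1, (hgo P hP hPh).2 hQs]
      omega
    · have h1 : Scheme.ord (ι (PR σ A) f) P = 0 :=
        ord_eq_zero fun hfP => hPQ ((eq_hPt_of_mem hP hPh hf hfP).trans hQe.symm)
      rw [h1, mul_zero, zero_add]
      exact ⟨fun h => (hgo P hP hPh).1 ((Finset.mem_insert.mp h).resolve_left hPQ),
        fun h => (hgo P hP hPh).2 fun h' => h (Finset.mem_insert_of_mem h')⟩

end Generic

end Groth.L06.DivPullback

end
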