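import Groth.Agent.L06.DivPullback.SpecOrd
import Groth.Agent.L22.Div.OrdRestrict

/-!
# Pullback of rational functions along dominant morphisms of integral schemes
-/

set_option autoImplicit false
set_option maxSynthPendingDepth 3
set_option linter.style.haveILetI false
set_option backward.isDefEq.respectTransparency.types false

universe u

open CategoryTheory AlgebraicGeometry

noncomputable section

namespace Groth.L06.DivPullback

variable {X Y Z : Scheme.{u}} [IsIntegral X] [IsIntegral Y] [IsIntegral Z]

/-- Pullback of rational functions along a morphism mapping generic point to generic point. -/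
def ffPull (f : Y ⟶ X) (hf : f (genericPoint Y) = genericPoint X) : X.functionField ⟶ Y.functionField :=
  X.presheaf.stalkSpecializes (specializes_of_eq hf) ≫ f.stalkMap (genericPoint Y)

theorem ffPull_congr {f f' : Y ⟶ X} (e : f = f') (hf : f (genericPoint Y) = genericPoint X)
    (hf' : f' (genericPoint Y) = genericPoint X) : ffPull f hf = ffPull f' hf' := by
  subst e; rfl

theorem ffPull_comp (g : Z ⟶ Y) (hg : g (genericPoint Z) = genericPoint Y) (f : Y ⟶ X)
    (hf : f (genericPoint Y) = genericPoint X) :
    ffPull (g ≫ f) ((congrArg f hg).trans hf) = ffPull f hf ≫ ffPull g hg := by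
  simp only [ffPull, Category.assoc]
  rw [← Scheme.Hom.stalkSpecializes_stalkMap_assoc f (g (genericPoint Z)) (genericPoint Y) (specializes_of_eq hg),
    ← Category.assoc (X.presheaf.stalkSpecializes _), TopCat.Presheaf.stalkSpecializes_comp,
    Scheme.Hom.stalkMap_comp]
  rfl

theorem ffMap_eq (i : Y ⟶ X) [IsOpenImmersion i] :
    Groth.L22.Div.OrdRestrict.ffMap i = ffPull i (genericPoint_eq_of_isOpenImmersion i) := rfl

theorem ffPull_ne_zero (f : Y ⟶ X) (hf : f (genericPoint Y) = genericPoint X) {c : X.functionField} (hc : c ≠ 0) :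
    (ffPull f hf).hom c ≠ 0 :=
  (map_ne_zero_iff _ (ffPull f hf).hom.injective).mpr hc

theorem ffPull_compat (f : Y ⟶ X) (hf : f (genericPoint Y) = genericPoint X) (y : Y) :
    X.presheaf.stalkSpecializes ((genericPoint_spec X).specializes trivial : genericPoint X ⤳ f y) ≫ ffPull f hf =
      f.stalkMap y ≫ Y.presheaf.stalkSpecializes ((genericPoint_spec Y).specializes trivial) := by
  rw [ffPull, TopCat.Presheaf.stalkSpecializes_comp_assoc]
  exact Scheme.Hom.stalkSpecializes_stalkMap f (genericPoint Y) y _

/-- A pulled back rational function has order zero at points over the generic point. -/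
theorem ord_ffPull_eq_zero [IsLocallyNoetherian Y] (f : Y ⟶ X) (hf : f (genericPoint Y) = genericPoint X) (y : Y)
    (hy : f y = genericPoint X) {c : X.functionField} (hc : c ≠ 0) :
    Scheme.ord ((ffPull f hf).hom c) y = 0 := by
  by_cases hh : Order.coheight y = 1
  swap
  · exact Scheme.ord_eq_zero_of_coheight_neq_one hh _
  haveI : Ring.KrullDimLE 1 (Y.presheaf.stalk y) := krullDimLE_of_coheight_le hh.le
  let c' := (X.presheaf.stalkSpecializes (specializes_of_eq hy)).hom c
  have hc' : IsUnit c' := (isUnit_iff_ne_zero.mpr hc).map _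
  have e : (ffPull f hf).hom c = algebraMap (Y.presheaf.stalk y) Y.functionField ((f.stalkMap y).hom c') := by
    have h1 := DFunLike.congr_fun (CommRingCat.hom_ext_iff.mp (ffPull_compat f hf y)) c'
    refine Eq.trans ?_ h1
    show _ = (ffPull f hf).hom ((X.presheaf.stalkSpecializes _).hom ((X.presheaf.stalkSpecializes _).hom c))
    rw [TopCat.Presheaf.stalkSpecializes_comp_apply, TopCat.Presheaf.stalkSpecializes_refl]
    rfl
  rw [Scheme.ord_eq_iff hh (ffPull_ne_zero f hf hc), e]
  exact (Ring.ordFrac_of_isUnit (hc'.map _)).trans rfl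

variable {A R : CommRingCat.{u}} [IsDomain A] [IsDomain R]

theorem genericPoint_SpecMap (φ : A ⟶ R) (hφ : Function.Injective φ.hom) :
    (Spec.map φ) (genericPoint (Spec R)) = genericPoint (Spec A) := by
  rw [genericPoint_eq_bot_of_affine, genericPoint_eq_bot_of_affine]
  exact PrimeSpectrum.ext ((RingHom.injective_iff_ker_eq_bot φ.hom).mp hφ)

theorem ffPull_Spec (φ : A ⟶ R) (h : (Spec.map φ) (genericPoint (Spec R)) = genericPoint (Spec A)) (a : A) :
    (ffPull (Spec.map φ) h).hom (ι A a) = ι R (φ.hom a) := by
  have h1 : StructureSheaf.toStalk A (genericPoint (Spec A)) ≫ (Spec A).presheaf.stalkSpecializes (specializes_of_eq h) =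
      StructureSheaf.toStalk A (Spec.map φ (genericPoint (Spec R))) :=
    StructureSheaf.toStalk_stalkSpecializes _
  show (StructureSheaf.toStalk A _ ≫ (Spec A).presheaf.stalkSpecializes (specializes_of_eq h) ≫
    (Spec.map φ).stalkMap _).hom a = (φ ≫ StructureSheaf.toStalk R _).hom a
  rw [← Category.assoc]
  refine Eq.trans ?_ (DFunLike.congr_fun (CommRingCat.hom_ext_iff.mp
    (stalkMap_toStalk φ (genericPoint (Spec R)))) a)
  exact congrArg ((Spec.map φ).stalkMap _).hom (DFunLike.congr_fun (CommRingCat.hom_ext_iff.mp h1) a)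

end Groth.L06.DivPullback

end
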