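import Mathlib.AlgebraicGeometry.OrderOfVanishing
import Mathlib.AlgebraicGeometry.AffineSpace
import Mathlib.RingTheory.DiscreteValuationRing.TFAE
import Mathlib.RingTheory.KrullDimension.PID

/-!
# Orders of vanishing on the spectrum of a Noetherian domain

Criteria in terms of elements of the ring for a prime to have coheight one, and the values of the order
function there.
-/

set_option autoImplicit false
set_option maxSynthPendingDepth 3
set_option linter.style.haveILetI false
set_option backward.isDefEq.respectTransparency.types false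

universe u

open CategoryTheory AlgebraicGeometry

noncomputable section

namespace Groth.L06.DivPullback

/-- `π` generates the maximal ideal of the localisation at `P`. -/
def IsUnif {R : Type u} [CommRing R] (P : Ideal R) (π : R) : Prop :=
  π ∈ P ∧ π ≠ 0 ∧ ∀ a ∈ P, ∃ s ∉ P, ∃ r, s * a = π * r

variable (R : CommRingCat.{u}) [IsDomain R]

/-- The map to the function field. -/
abbrev ι : R →+* (Spec R).functionField := algebraMap R (Spec R).functionField

theorem ι_ne_zero {a : R} (ha : a ≠ 0) : ι R a ≠ 0 :=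
  (map_ne_zero_iff _ (IsFractionRing.injective R (Spec R).functionField)).mpr ha

theorem exists_div (g : (Spec R).functionField) : ∃ a b : R, b ≠ 0 ∧ g = ι R a / ι R b := by
  obtain ⟨a, b, hb, rfl⟩ := IsFractionRing.div_surjective (A := R) g
  exact ⟨a, b, nonZeroDivisors.ne_zero hb, rfl⟩

variable {R}

/-- The ring maps to its stalks. -/
instance algebraStalk (P : Spec R) : Algebra R ((Spec R).presheaf.stalk P) :=
  StructureSheaf.stalkAlgebra R P

theorem algebraMap_stalk (P : Spec R) (a : R) :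
    algebraMap ((Spec R).presheaf.stalk P) (Spec R).functionField
      (algebraMap R ((Spec R).presheaf.stalk P) a) = ι R a := by
  show ((Spec R).presheaf.stalkSpecializes _).hom ((StructureSheaf.toStalk R P).hom a) =
    (StructureSheaf.toStalk R _).hom a
  exact DFunLike.congr_fun (CommRingCat.hom_ext_iff.mp
    (StructureSheaf.toStalk_stalkSpecializes (R := R)
      ((genericPoint_spec (Spec R)).specializes trivial : genericPoint (Spec R) ⤳ P))) a

theorem stalk_isLocalization (P : Spec R) :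
    IsLocalization.AtPrime ((Spec R).presheaf.stalk P) P.asIdeal :=
  StructureSheaf.IsLocalization.to_stalk R P

theorem isUnit_stalk {P : Spec R} {a : R} (ha : a ∉ P.asIdeal) :
    IsUnit (algebraMap R ((Spec R).presheaf.stalk P) a) :=
  haveI := stalk_isLocalization P
  IsLocalization.map_units _ (⟨a, ha⟩ : P.asIdeal.primeCompl)

theorem maximalIdeal_stalk {P : Spec R} {π : R} (h : IsUnif P.asIdeal π) :
    IsLocalRing.maximalIdeal ((Spec R).presheaf.stalk P) =
      Ideal.span {algebraMap R ((Spec R).presheaf.stalk P) π} := by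
  haveI := stalk_isLocalization P
  refine le_antisymm (fun x hx => ?_) ((Ideal.span_singleton_le_iff_mem _).mpr
    ((IsLocalization.AtPrime.to_map_mem_maximal_iff _ P.asIdeal π).mpr h.1))
  obtain ⟨a, s, rfl⟩ := IsLocalization.exists_mk'_eq P.asIdeal.primeCompl x
  obtain ⟨t, ht, r, hr⟩ := h.2.2 a ((IsLocalization.AtPrime.mk'_mem_maximal_iff _ P.asIdeal a s).mp hx)
  refine Ideal.mem_span_singleton'.mpr ⟨IsLocalization.mk' _ r (⟨t, ht⟩ * s), ?_⟩
  rw [mul_comm, IsLocalization.mul_mk'_eq_mk'_of_mul, IsLocalization.mk'_eq_iff_eq]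
  refine congrArg _ ?_
  show (s : R) * (π * r) = t * s * a
  rw [← hr]
  ring

variable [IsNoetherianRing R]

theorem isDVR_stalk {P : Spec R} {π : R} (h : IsUnif P.asIdeal π) :
    IsDiscreteValuationRing ((Spec R).presheaf.stalk P) := by
  haveI := stalk_isLocalization P
  haveI : IsNoetherianRing ((Spec R).presheaf.stalk P) := IsLocalization.isNoetherianRing P.asIdeal.primeCompl _ ‹_›
  have hf : ¬ IsField ((Spec R).presheaf.stalk P) := fun hF => by
    have h0 := (IsLocalRing.isField_iff_maximalIdeal_eq.mp hF).symm.trans (maximalIdeal_stalk h)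
    have h1 := congrArg (algebraMap _ (Spec R).functionField) (Ideal.span_singleton_eq_bot.mp h0.symm)
    rw [algebraMap_stalk, map_zero] at h1
    exact ι_ne_zero R h.2.1 h1
  exact ((IsDiscreteValuationRing.TFAE _ hf).out 0 4).mpr
    (⟨⟨_, maximalIdeal_stalk h⟩⟩ : Submodule.IsPrincipal _)

theorem coheight_eq_one {P : Spec R} {π : R} (h : IsUnif P.asIdeal π) : Order.coheight P = 1 := by
  haveI := isDVR_stalk h
  have hdim : ringKrullDim ((Spec R).presheaf.stalk P) = 1 := by
    exact IsPrincipalIdealRing.ringKrullDim_eq_one _ (IsDiscreteValuationRing.not_isField _)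
  rw [ringKrullDim_stalk_eq_coheight] at hdim
  exact_mod_cast hdim

theorem two_le_coheight {Q P : Spec R} (hQ : Q.asIdeal ≠ ⊥) (hlt : Q.asIdeal < P.asIdeal) :
    2 ≤ Order.coheight P := by
  let O : Spec R := ⟨⊥, Ideal.isPrime_bot⟩
  have hQO : Q < O := lt_of_le_not_ge ((AffineSpace.spec_le_iff R _ _).mpr bot_le) fun hle =>
    hQ (le_bot_iff.mp ((AffineSpace.spec_le_iff R _ _).mp hle))
  have hPQ : P < Q := lt_of_le_not_ge ((AffineSpace.spec_le_iff R _ _).mpr hlt.le) fun hle =>
    hlt.not_ge ((AffineSpace.spec_le_iff R _ _).mp hle)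
  refine le_trans ?_ (Order.coheight_add_one_le hPQ)
  refine le_trans ?_ (add_le_add (Order.coheight_add_one_le hQO) le_rfl)
  rw [add_assoc]
  exact le_add_left le_rfl |>.trans' (by norm_num)

theorem ne_bot_of_coheight {P : Spec R} (h : Order.coheight P = 1) : P.asIdeal ≠ ⊥ := fun h0 => by
  have : IsMax P := fun Q hQ => (AffineSpace.spec_le_iff R _ _).mpr (h0.le.trans bot_le)
  rw [Order.coheight_eq_zero.mpr this] at h
  exact zero_ne_one h

theorem eq_of_le {Q P : Spec R} (hP : Order.coheight P = 1) (hQ : Q.asIdeal ≠ ⊥)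
    (hle : Q.asIdeal ≤ P.asIdeal) : Q = P := by
  by_contra hne
  have := two_le_coheight hQ (lt_of_le_of_ne hle fun h => hne (PrimeSpectrum.ext h))
  rw [hP] at this
  exact absurd this (by norm_num)

theorem finite_coheight_one_mem {a : R} (ha : a ≠ 0) :
    {P : Spec R | Order.coheight P = 1 ∧ a ∈ P.asIdeal}.Finite := by
  refine Set.Finite.of_finite_image (f := PrimeSpectrum.asIdeal) ?_ (fun P _ Q _ h => PrimeSpectrum.ext h)
  refine (Ideal.finite_minimalPrimes_of_isNoetherianRing R (Ideal.span {a})).subset ?_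
  rintro _ ⟨P, ⟨hP, haP⟩, rfl⟩
  refine ⟨⟨P.isPrime, (Ideal.span_singleton_le_iff_mem _).mpr haP⟩, fun J ⟨hJ, hJa⟩ hJP => ?_⟩
  have hne : J ≠ ⊥ := fun h0 => ha (by
    have h1 := hJa (Ideal.mem_span_singleton_self a)
    rwa [h0, Ideal.mem_bot] at h1)
  exact (congrArg PrimeSpectrum.asIdeal (eq_of_le (Q := ⟨J, hJ⟩) hP hne hJP)).ge

theorem ord_ι {P : Spec R} (hP : Order.coheight P = 1) {a : R} (ha : a ≠ 0) :
    ((Scheme.ord (ι R a) P : ℤ) = ((Ring.ord ((Spec R).presheaf.stalk P)
      (algebraMap R ((Spec R).presheaf.stalk P) a)).toNat : ℤ)) := by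
  haveI : Ring.KrullDimLE 1 ((Spec R).presheaf.stalk P) := krullDimLE_of_coheight_le hP.le
  set b := algebraMap R ((Spec R).presheaf.stalk P) a with hb
  have hb0 : b ≠ 0 := fun h0 => ι_ne_zero R ha (by rw [← algebraMap_stalk P a, ← hb, h0, map_zero])
  obtain ⟨m, hm⟩ := ENat.ne_top_iff_exists.mp (Ring.ord_ne_top (mem_nonZeroDivisors_of_ne_zero hb0))
  rw [Scheme.ord_eq_iff hP (ι_ne_zero R ha)]
  show Ring.ordFrac ((Spec R).presheaf.stalk P) (ι R a) = _
  rw [← algebraMap_stalk P a, Ring.ordFrac_eq_ord _ hb0,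
    Ring.ordMonoidWithZeroHom_eq_coe _ (mem_nonZeroDivisors_of_ne_zero hb0) hm.symm, ← hm]
  rfl

theorem ord_nonneg (P : Spec R) {a : R} (ha : a ≠ 0) : 0 ≤ Scheme.ord (ι R a) P := by
  by_cases hP : Order.coheight P = 1
  · rw [ord_ι hP ha]; exact Int.natCast_nonneg _
  · rw [Scheme.ord_eq_zero_of_coheight_neq_one hP]

theorem ord_eq_zero {P : Spec R} {a : R} (ha : a ∉ P.asIdeal) : Scheme.ord (ι R a) P = 0 := by
  by_cases hP : Order.coheight P = 1
  · have ha0 : a ≠ 0 := fun h => ha (h ▸ zero_mem _)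
    rw [ord_ι hP ha0, Ring.ord_of_isUnit (isUnit_stalk ha)]
    rfl
  · rw [Scheme.ord_eq_zero_of_coheight_neq_one hP]

theorem ord_unif {P : Spec R} {π : R} (h : IsUnif P.asIdeal π) : Scheme.ord (ι R π) P = 1 := by
  rw [ord_ι (coheight_eq_one h) h.2.1, Ring.ord, ← maximalIdeal_stalk h]
  haveI : IsSimpleModule ((Spec R).presheaf.stalk P)
      ((Spec R).presheaf.stalk P ⧸ IsLocalRing.maximalIdeal ((Spec R).presheaf.stalk P)) :=
    isSimpleModule_iff_isCoatom.mpr (IsLocalRing.maximalIdeal.isMaximal _).out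
  rw [Module.length_eq_one]
  rfl

theorem ord_div (P : Spec R) {a b : R} (ha : a ≠ 0) (hb : b ≠ 0) :
    Scheme.ord (ι R a / ι R b) P = Scheme.ord (ι R a) P - Scheme.ord (ι R b) P := by
  have h := Scheme.ord_mul (x := P) (div_ne_zero (ι_ne_zero R ha) (ι_ne_zero R hb)) (ι_ne_zero R hb)
  rw [div_mul_cancel₀ _ (ι_ne_zero R hb)] at h
  omega

theorem ord_ι_mul (P : Spec R) {a b : R} (ha : a ≠ 0) (hb : b ≠ 0) :
    Scheme.ord (ι R (a * b)) P = Scheme.ord (ι R a) P + Scheme.ord (ι R b) P := by
  rw [map_mul, Scheme.ord_mul (ι_ne_zero R ha) (ι_ne_zero R hb)]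

theorem ord_zpow (P : Spec R) {x : (Spec R).functionField} (hx : x ≠ 0) (n : ℤ) :
    Scheme.ord (x ^ n) P = n * Scheme.ord x P := by
  have h1 : Scheme.ord (1 : (Spec R).functionField) P = 0 := by
    have := ord_eq_zero (P := P) (a := (1 : R)) P.isPrime.one_notMem
    rwa [map_one] at this
  induction n using Int.induction_on with
  | zero => rw [zpow_zero, h1, zero_mul]
  | succ k ih => rw [zpow_add_one₀ hx, Scheme.ord_mul (zpow_ne_zero _ hx) hx, ih]; ring
  | pred k ih =>
    have h2 := Scheme.ord_mul (x := P) (zpow_ne_zero (-(k : ℤ) - 1) hx) hx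
    rw [← zpow_add_one₀ hx, sub_add_cancel, ih] at h2
    linear_combination -h2

/-- The inductive step at a uniformiser. -/
theorem ord_step {P : Spec R} {π : R} (h : IsUnif P.asIdeal π) {a s r : R} (ha : a ≠ 0) (hs : s ∉ P.asIdeal)
    (he : s * a = π * r) : Scheme.ord (ι R a) P = 1 + Scheme.ord (ι R r) P := by
  have hs0 : s ≠ 0 := fun h0 => hs (h0 ▸ zero_mem _)
  have hr : r ≠ 0 := fun h0 => mul_ne_zero hs0 ha (he.trans (by rw [h0, mul_zero]))
  have h1 := congrArg (fun x => Scheme.ord (ι R x) P) he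
  rw [ord_ι_mul P hs0 ha, ord_ι_mul P h.2.1 hr, ord_eq_zero hs, ord_unif h] at h1
  omega

theorem finite_ord_ne_zero (g : (Spec R).functionField) :
    {P : Spec R | Scheme.ord g P ≠ 0}.Finite := by
  obtain ⟨a, b, hb, rfl⟩ := exists_div R g
  rcases eq_or_ne a 0 with rfl | ha
  · rw [map_zero, zero_div, Scheme.ord_zero]
    exact Set.finite_empty.subset fun P hP => hP rfl
  refine ((finite_coheight_one_mem ha).union (finite_coheight_one_mem hb)).subset fun P hP => ?_
  by_contra hne
  simp only [Set.mem_union, Set.mem_setOf_eq, not_or, not_and] at hne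
  refine hP ?_
  by_cases h1 : Order.coheight P = 1
  · rw [ord_div P ha hb, ord_eq_zero (hne.1 h1), ord_eq_zero (hne.2 h1), sub_self]
  · rw [Scheme.ord_eq_zero_of_coheight_neq_one h1]

end Groth.L06.DivPullback

end
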